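import Cfsg.Agent.H74.SpB

/-!
# S5719, symplectic groups in characteristic 2 (helper407): involutions of a given rank

`SI B k` : the elements `g` of `Sp B` with `g ^ 2 = 1` and `rank (g - 1) = k`.
`card_SI` : `|SI B k| * ∏_{i < k} (q ^ k - q ^ i) ≤ q ^ (k (2 m + 1))`.
-/

set_option autoImplicit false
set_option linter.unusedSectionVars false
set_option linter.unusedSimpArgs false

namespace Cfsg.Agent.H407.IF

open Module Subgroup Cfsg.Agent.H74.Psp

variable {F V : Type*} [Field F] [AddCommGroup V] [Module F V] {B : V →ₗ[F] V →ₗ[F] F}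

/-- `g - 1` -/
def nl (g : Sp B) : V →ₗ[F] V := (g : V ≃ₗ[F] V).toLinearMap - LinearMap.id

theorem nl_apply (g : Sp B) (x : V) : nl g x = g • x - x := rfl

theorem smul_eq_add (g : Sp B) (x : V) : g • x = x + nl g x := by rw [nl_apply]; abel

theorem nl_eq_zero {g : Sp B} {x : V} : nl g x = 0 ↔ g • x = x := by rw [nl_apply, sub_eq_zero]

theorem nl_inj {g h : Sp B} (H : ∀ x, nl g x = nl h x) : g = h := by
  apply Sp.ext'
  intro x
  rw [smul_eq_add, H, ← smul_eq_add]

theorem nl_sym {g : Sp B} (h : g * g = 1) (x y : V) : B (nl g x) y = B x (nl g y) := by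
  have h1 : g⁻¹ = g := inv_eq_of_mul_eq_one_left h
  rw [nl_apply, nl_apply, map_sub, map_sub, LinearMap.sub_apply, B_smul_left, h1]

section Char2

variable (h2 : (2 : F) = 0)
include h2

theorem addself (x : V) : x + x = 0 := by
  rw [← two_smul F x, h2, zero_smul]

theorem nl_nl {g : Sp B} (h : g * g = 1) (x : V) : nl g (nl g x) = 0 := by
  have h1 : g • g • x = x := by rw [← mul_smul, h, one_smul]
  rw [nl_apply, nl_apply, smul_sub, h1]
  have h3 : x - g • x - (g • x - x) = (x + x) - (g • x + g • x) := by abel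
  rw [h3, addself h2, addself h2, sub_zero]

theorem negself (x : V) : -x = x := by
  rw [neg_eq_iff_add_eq_zero, addself h2]

end Char2

theorem mem_ker_nl (hB : Symp B) {g : Sp B} (h : g * g = 1) {y : V} (hy : ∀ x, B (nl g x) y = 0) : nl g y = 0 := by
  apply hB.nd
  intro x
  apply orth_symm hB
  rw [← nl_sym h, hy]

/-- `g - 1` for a conjugate -/
theorem nl_conj (x g : Sp B) (v : V) : nl (x * g * x⁻¹) v = x • nl g (x⁻¹ • v) := by
  rw [nl_apply, nl_apply, smul_sub, mul_smul, mul_smul, smul_inv_smul]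

theorem finrank_nl_conj (x g : Sp B) :
    finrank F (LinearMap.range (nl (x * g * x⁻¹))) = finrank F (LinearMap.range (nl g)) := by
  have h : LinearMap.range (nl (x * g * x⁻¹)) = (LinearMap.range (nl g)).map (x : V ≃ₗ[F] V).toLinearMap := by
    ext v
    constructor
    · rintro ⟨w, rfl⟩
      exact ⟨nl g (x⁻¹ • w), ⟨_, rfl⟩, (nl_conj x g w).symm⟩
    · rintro ⟨_, ⟨w, rfl⟩, rfl⟩
      refine ⟨x • w, ?_⟩
      rw [nl_conj, inv_smul_smul]
      rfl
  rw [h]
  exact LinearEquiv.finrank_map_eq (x : V ≃ₗ[F] V) _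

/-- the elements of square one and rank `k` -/
def SI (B : V →ₗ[F] V →ₗ[F] F) (k : ℕ) : Set (Sp B) :=
  {g | g * g = 1 ∧ finrank F (LinearMap.range (nl g)) = k}

theorem index_le_card [Finite V] {k : ℕ} {t : Sp B} (ht : t ∈ SI B k) :
    (centralizer ({t} : Set (Sp B))).index ≤ Nat.card (SI B k) := by
  let f : (Sp B ⧸ centralizer ({t} : Set (Sp B))) → SI B k := fun c =>
    Quotient.liftOn' c (fun x => (⟨x * t * x⁻¹, by
      refine ⟨?_, ?_⟩
      · have h1 : x * t * x⁻¹ * (x * t * x⁻¹) = x * (t * t) * x⁻¹ := by group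
        rw [h1, ht.1, mul_one, mul_inv_cancel]
      · rw [finrank_nl_conj]
        exact ht.2⟩ : SI B k)) (by
      intro a b hab
      rw [QuotientGroup.leftRel_apply, mem_centralizer_iff] at hab
      have h1 := hab t rfl
      apply Subtype.ext
      show a * t * a⁻¹ = b * t * b⁻¹
      have h3 : t * (a⁻¹ * b) = a⁻¹ * b * t := h1
      calc a * t * a⁻¹ = a * (t * (a⁻¹ * b)) * b⁻¹ := by group
        _ = a * (a⁻¹ * b * t) * b⁻¹ := by rw [h3]
        _ = b * t * b⁻¹ := by group)
  refine Nat.card_le_card_of_injective f ?_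
  intro a b hab
  induction a using QuotientGroup.induction_on with
  | H a =>
    induction b using QuotientGroup.induction_on with
    | H b =>
      have h1 : a * t * a⁻¹ = b * t * b⁻¹ := congrArg Subtype.val hab
      rw [QuotientGroup.eq, mem_centralizer_iff]
      intro s hs
      rw [Set.mem_singleton_iff.1 hs]
      calc t * (a⁻¹ * b) = a⁻¹ * (a * t * a⁻¹) * b := by group
        _ = a⁻¹ * (b * t * b⁻¹) * b := by rw [h1]
        _ = a⁻¹ * b * t := by group

section Count

variable [Finite F] [Finite V]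

theorem card_orth (hB : Symp B) {k : ℕ} {u : Fin k → V} (hu : LinearIndependent F u) :
    Nat.card {x : V // ∀ i, B (u i) x = 0} * Nat.card F ^ k = Nat.card V := by
  have hnd : LinearMap.BilinForm.Nondegenerate B := by
    constructor
    · intro x hx
      exact hB.nd x hx
    · intro x hx
      exact hB.nd x fun y => orth_symm hB (hx y)
  have h1 := LinearMap.BilinForm.finrank_orthogonal hnd (Submodule.span F (Set.range u))
  rw [finrank_span_eq_card hu, Fintype.card_fin] at h1
  have hk : k ≤ finrank F V := by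
    have := hu.fintype_card_le_finrank
    rwa [Fintype.card_fin] at this
  have h2 : Nat.card {x : V // ∀ i, B (u i) x = 0} =
      Nat.card (LinearMap.BilinForm.orthogonal B (Submodule.span F (Set.range u))) := by
    refine Nat.card_congr (Equiv.subtypeEquivRight fun x => ?_)
    rw [LinearMap.BilinForm.mem_orthogonal_iff]
    constructor
    · intro h n hn
      show B n x = 0
      induction hn using Submodule.span_induction with
      | mem n hn => obtain ⟨i, rfl⟩ := hn; exact h i
      | zero => rw [map_zero, LinearMap.zero_apply]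
      | add a b _ _ ha hb => rw [map_add, LinearMap.add_apply, ha, hb, add_zero]
      | smul c a _ ha => rw [map_smul, LinearMap.smul_apply, ha, smul_zero]
    · intro h i
      exact h _ (Submodule.subset_span ⟨i, rfl⟩)
  rw [h2, Module.natCard_eq_pow_finrank (K := F), h1, Module.natCard_eq_pow_finrank (K := F) (V := V), ← pow_add,
    Nat.sub_add_cancel hk]

/-- independent, pairwise orthogonal vectors and a symmetric matrix -/
def TS (B : V →ₗ[F] V →ₗ[F] F) (k : ℕ) : Type _ :=
  {p : (Fin k → V) × (Fin k → Fin k → F) //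
    LinearIndependent F p.1 ∧ (∀ i j, B (p.1 i) (p.1 j) = 0) ∧ ∀ i j, p.2 i j = p.2 j i}

instance (k : ℕ) : Finite (TS B k) := Subtype.finite

theorem card_TS (hB : Symp B) {m : ℕ} (hV : Nat.card V = Nat.card F ^ (2 * m)) (k : ℕ) :
    Nat.card (TS B k) ≤ Nat.card F ^ (k * (2 * m + 1)) := by
  classical
  induction k with
  | zero =>
    have : Subsingleton (TS B 0) := by
      constructor
      intro a b
      apply Subtype.ext
      exact Prod.ext (Subsingleton.elim _ _) (Subsingleton.elim _ _)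
    rw [zero_mul, pow_zero]
    exact Finite.card_le_one_iff_subsingleton.2 this
  | succ k ih =>
    have hq : 0 < Nat.card F := Nat.card_pos
    let f : TS B (k + 1) → Σ p : TS B k, {x : V // ∀ i, B (p.1.1 i) x = 0} × (Fin (k + 1) → F) := fun p =>
      ⟨⟨(fun i => p.1.1 i.castSucc, fun i j => p.1.2 i.castSucc j.castSucc),
        p.2.1.comp _ (Fin.castSucc_injective k), fun i j => p.2.2.1 _ _, fun i j => p.2.2.2 _ _⟩,
        ⟨p.1.1 (Fin.last k), fun i => p.2.2.1 _ _⟩, fun i => p.1.2 i (Fin.last k)⟩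
    have hf : Function.Injective f := by
      intro p p' h
      have h1 : ∀ i : Fin k, p.1.1 i.castSucc = p'.1.1 i.castSucc := by
        intro i
        have := congrArg (fun s : (Σ p : TS B k, {x : V // ∀ i, B (p.1.1 i) x = 0} × (Fin (k + 1) → F)) => s.1.1.1 i) h
        exact this
      have h3 : ∀ i j : Fin k, p.1.2 i.castSucc j.castSucc = p'.1.2 i.castSucc j.castSucc := by
        intro i j
        have := congrArg (fun s : (Σ p : TS B k, {x : V // ∀ i, B (p.1.1 i) x = 0} × (Fin (k + 1) → F)) => s.1.1.2 i j) h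
        exact this
      have h4 : p.1.1 (Fin.last k) = p'.1.1 (Fin.last k) := by
        have := congrArg (fun s : (Σ p : TS B k, {x : V // ∀ i, B (p.1.1 i) x = 0} × (Fin (k + 1) → F)) => (s.2.1 : V)) h
        exact this
      have h5 : ∀ i, p.1.2 i (Fin.last k) = p'.1.2 i (Fin.last k) := by
        intro i
        have := congrArg (fun s : (Σ p : TS B k, {x : V // ∀ i, B (p.1.1 i) x = 0} × (Fin (k + 1) → F)) => s.2.2 i) h
        exact this
      apply Subtype.ext
      apply Prod.ext
      · funext i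
        refine Fin.lastCases ?_ (fun i => ?_) i
        · exact h4
        · exact h1 i
      · funext i j
        refine Fin.lastCases ?_ (fun j => ?_) j
        · exact h5 i
        · refine Fin.lastCases ?_ (fun i => ?_) i
          · rw [p.2.2.2, p'.2.2.2]
            exact h5 _
          · exact h3 i j
    refine (Nat.card_le_card_of_injective f hf).trans ?_
    have : Fintype (TS B k) := Fintype.ofFinite _
    rw [Nat.card_sigma]
    have h6 : ∀ p : TS B k, Nat.card ({x : V // ∀ i, B (p.1.1 i) x = 0} × (Fin (k + 1) → F)) =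
        Nat.card F ^ (2 * m + 1) := by
      intro p
      have h7 := card_orth hB p.2.1
      rw [Nat.card_prod, Nat.card_fun, Nat.card_fin, pow_succ (Nat.card F) k, ← mul_assoc, h7, hV, ← pow_succ]
    rw [Finset.sum_congr rfl fun p _ => h6 p, Finset.sum_const, Finset.card_univ, ← Nat.card_eq_fintype_card,
      smul_eq_mul]
    calc Nat.card (TS B k) * Nat.card F ^ (2 * m + 1)
        ≤ Nat.card F ^ (k * (2 * m + 1)) * Nat.card F ^ (2 * m + 1) := Nat.mul_le_mul_right _ ih
      _ = Nat.card F ^ ((k + 1) * (2 * m + 1)) := by rw [← pow_add]; congr 1; ring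

/-- **the number of involutions of rank `k`** -/
theorem card_SI (hB : Symp B) (h2 : (2 : F) = 0) {m : ℕ} (hV : Nat.card V = Nat.card F ^ (2 * m)) (k : ℕ) :
    Nat.card (SI B k) * ∏ i ∈ Finset.range k, (Nat.card F ^ k - Nat.card F ^ i) ≤ Nat.card F ^ (k * (2 * m + 1)) := by
  classical
  have : Fintype F := Fintype.ofFinite F
  have : Fintype (SI B k) := Fintype.ofFinite _
  have h1 : ∀ g : SI B k, Nat.card {u : Fin k → LinearMap.range (nl g.1) // LinearIndependent F u} =
      ∏ i ∈ Finset.range k, (Nat.card F ^ k - Nat.card F ^ i) := by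
    intro g
    have h3 : finrank F (LinearMap.range (nl g.1)) = k := g.2.2
    rw [card_linearIndependent (K := F) (V := LinearMap.range (nl g.1)) (k := k) (by rw [h3]), h3,
      Nat.card_eq_fintype_card, Finset.prod_range]
  have h3 : Nat.card (Σ g : SI B k, {u : Fin k → LinearMap.range (nl g.1) // LinearIndependent F u}) =
      Nat.card (SI B k) * ∏ i ∈ Finset.range k, (Nat.card F ^ k - Nat.card F ^ i) := by
    rw [Nat.card_sigma, Finset.sum_congr rfl fun g _ => h1 g, Finset.sum_const, Finset.card_univ,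
      ← Nat.card_eq_fintype_card, smul_eq_mul]
  rw [← h3]
  refine le_trans ?_ (card_TS hB hV k)
  -- preimages
  have hx : ∀ (g : SI B k) (u : Fin k → LinearMap.range (nl g.1)), ∃ x : Fin k → V, ∀ i, nl g.1 (x i) = u i := by
    intro g u
    choose x hx using fun i => (u i).2
    exact ⟨x, hx⟩
  choose X hX using hx
  have hsym : ∀ (g : SI B k) (x y : V), B x (nl g.1 y) = B y (nl g.1 x) := by
    intro g x y
    rw [← nl_sym g.2.1, skew hB, ← map_neg, negself h2]
  let f : (Σ g : SI B k, {u : Fin k → LinearMap.range (nl g.1) // LinearIndependent F u}) → TS B k := fun s =>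
    ⟨(fun i => (s.2.1 i : V), fun i j => B (X s.1 s.2.1 i) (s.2.1 j)), by
      refine ⟨?_, ?_, ?_⟩
      · exact s.2.2.map' (LinearMap.range (nl s.1.1)).subtype (Submodule.ker_subtype _)
      · intro i j
        show B (s.2.1 i : V) (s.2.1 j) = 0
        rw [← hX s.1 s.2.1 i, nl_sym s.1.2.1, ← hX s.1 s.2.1 j, nl_nl h2 s.1.2.1, map_zero]
      · intro i j
        show B (X s.1 s.2.1 i) (s.2.1 j) = B (X s.1 s.2.1 j) (s.2.1 i)
        rw [← hX s.1 s.2.1 j, ← hX s.1 s.2.1 i, hsym]⟩
  refine Nat.card_le_card_of_injective f ?_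
  rintro ⟨g, u, hu⟩ ⟨g', u', hu'⟩ hfg
  have hv : ∀ i, (u i : V) = u' i := fun i => congrArg (fun p : TS B k => p.1.1 i) hfg
  have hh : ∀ i j, B (X g u i) (u j) = B (X g' u' i) (u' j) := fun i j => congrArg (fun p : TS B k => p.1.2 i j) hfg
  have hspan : ∀ (g : SI B k) (u : Fin k → LinearMap.range (nl g.1)), LinearIndependent F u →
      Submodule.span F (Set.range fun i => (u i : V)) = LinearMap.range (nl g.1) := by
    intro g u hu
    apply Submodule.eq_of_le_of_finrank_eq
    · rw [Submodule.span_le]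
      rintro _ ⟨i, rfl⟩
      exact (u i).2
    · have h9 := finrank_span_eq_card (hu.map' (LinearMap.range (nl g.1)).subtype (Submodule.ker_subtype _))
      rw [Fintype.card_fin] at h9
      exact h9.trans g.2.2.symm
  have hr : LinearMap.range (nl g.1) = LinearMap.range (nl g'.1) := by
    rw [← hspan g u hu, ← hspan g' u' hu']
    congr 2
    funext i
    exact hv i
  have hb : ∀ i, ∀ d ∈ LinearMap.range (nl g.1), B (X g u i) d = B (X g' u' i) d := by
    intro i d hd
    rw [← hspan g u hu] at hd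
    induction hd using Submodule.span_induction with
    | mem n hn =>
      obtain ⟨j, rfl⟩ := hn
      show B (X g u i) (u j) = B (X g' u' i) (u j)
      rw [hh, hv]
    | zero => rw [map_zero, map_zero]
    | add a b _ _ ha hb => rw [map_add, map_add, ha, hb]
    | smul c a _ ha => rw [map_smul, map_smul, ha]
  have hgg : g = g' := by
    apply Subtype.ext
    apply nl_inj
    intro x
    rw [← sub_eq_zero]
    obtain ⟨y, hy⟩ : nl g.1 x - nl g'.1 x ∈ LinearMap.range (nl g.1) := by
      refine Submodule.sub_mem _ (LinearMap.mem_range_self _ x) ?_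
      rw [hr]
      exact LinearMap.mem_range_self _ x
    rw [← hy]
    apply mem_ker_nl hB g.2.1
    intro z
    -- the range is spanned by the `u i`
    have h4 : nl g.1 z ∈ Submodule.span F (Set.range fun i => (u i : V)) := by
      rw [hspan g u hu]
      exact ⟨z, rfl⟩
    have h5 : ∀ i, B (u i : V) y = 0 := by
      intro i
      rw [← hX g u i, nl_sym g.2.1, hy, map_sub]
      have h6 : B (X g u i) (nl g.1 x) = B (u i : V) x := by rw [← nl_sym g.2.1, hX]
      have h7 : B (X g u i) (nl g'.1 x) = B (u i : V) x := by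
        rw [hb i _ (by rw [hr]; exact ⟨x, rfl⟩), ← nl_sym g'.2.1, hX, ← hv]
      rw [h6, h7, sub_self]
    generalize nl g.1 z = w at h4
    induction h4 using Submodule.span_induction with
    | mem n hn => obtain ⟨j, rfl⟩ := hn; exact h5 j
    | zero => rw [map_zero, LinearMap.zero_apply]
    | add a b _ _ ha hb => rw [map_add, LinearMap.add_apply, ha, hb, add_zero]
    | smul c a _ ha => rw [map_smul, LinearMap.smul_apply, ha, smul_zero]
  subst hgg
  have huu : u = u' := by
    funext i
    exact Subtype.ext (hv i)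
  subst huu
  rfl

theorem gl_rec (q k : ℕ) : ∏ i ∈ Finset.range (k + 1), (q ^ (k + 1) - q ^ i) =
    (q ^ (k + 1) - 1) * (q ^ k * ∏ i ∈ Finset.range k, (q ^ k - q ^ i)) := by
  rw [Finset.prod_range_succ', pow_zero, mul_comm]
  congr 1
  have h1 : ∀ i ∈ Finset.range k, q ^ (k + 1) - q ^ (i + 1) = q * (q ^ k - q ^ i) := by
    intro i _
    rw [Nat.mul_sub, ← pow_succ', ← pow_succ']
  rw [Finset.prod_congr rfl h1, Finset.prod_mul_distrib, Finset.prod_const, Finset.card_range]

theorem gl_lower_aux {q : ℕ} (hq : 2 ≤ q) (k : ℕ) (hk : 1 ≤ k) :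
    q ^ (k * k) * (q ^ (k + 1) + 4) ≤ 4 * (∏ i ∈ Finset.range k, (q ^ k - q ^ i)) * q ^ (k + 1) := by
  induction k, hk using Nat.le_induction with
  | base =>
    obtain ⟨r, rfl⟩ : ∃ r, q = r + 2 := ⟨q - 2, by omega⟩
    simp only [Finset.prod_range_one, pow_zero, pow_one, mul_one]
    have e1 : r + 2 - 1 = r + 1 := by omega
    rw [e1]
    have e2 : 4 * (r + 1) * (r + 2) ^ (1 + 1) =
        (r + 2) * ((r + 2) ^ (1 + 1) + 4) + (3 * r ^ 3 + 14 * r ^ 2 + 16 * r) := by ring
    rw [e2]
    exact Nat.le_add_right _ _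
  | succ k hk ih =>
    rw [gl_rec]
    set G := ∏ i ∈ Finset.range k, (q ^ k - q ^ i) with hG
    have hx4 : 4 ≤ q ^ (k + 1) := by
      calc 4 = 2 ^ 2 := by norm_num
        _ ≤ q ^ 2 := Nat.pow_le_pow_left hq 2
        _ ≤ q ^ (k + 1) := Nat.pow_le_pow_right (by omega) (by omega)
    have hq0 : 0 < q ^ k := Nat.pow_pos (by omega)
    have hxq : q ^ (k + 1) = q * q ^ k := by rw [pow_succ']
    obtain ⟨y, hy⟩ : ∃ y, q ^ (k + 1) = y + 1 := ⟨q ^ (k + 1) - 1, by omega⟩
    have h1 : q ^ (k + 1) - 1 = y := by omega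
    rw [h1]
    have h3 : q ^ (k + 1 + 1) = q * q ^ (k + 1) := by rw [pow_succ']
    have h4 : q ^ ((k + 1) * (k + 1)) = q ^ (k * k) * (q ^ k * q ^ (k + 1)) := by
      rw [← pow_add, ← pow_add]; congr 1; ring
    rw [h4, h3]
    -- claim: (x + 4) y ≥ q^k (q x + 4)
    have h5 : q ^ k * (q * q ^ (k + 1) + 4) ≤ (q ^ (k + 1) + 4) * y := by
      have h6 : 2 * q ^ k ≤ q ^ (k + 1) := by rw [hxq]; exact Nat.mul_le_mul_right _ hq
      have h7 : q ^ k * (q * q ^ (k + 1) + 4) = q ^ (k + 1) * q ^ (k + 1) + 4 * q ^ k := by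
        rw [hxq]; ring
      rw [h7, hy]
      rw [hy] at h6 hx4
      nlinarith
    calc q ^ (k * k) * (q ^ k * q ^ (k + 1)) * (q * q ^ (k + 1) + 4)
        = q ^ (k * k) * q ^ (k + 1) * (q ^ k * (q * q ^ (k + 1) + 4)) := by ring
      _ ≤ q ^ (k * k) * q ^ (k + 1) * ((q ^ (k + 1) + 4) * y) := Nat.mul_le_mul_left _ h5
      _ = (q ^ (k * k) * (q ^ (k + 1) + 4)) * (q ^ (k + 1) * y) := by ring
      _ ≤ (4 * G * q ^ (k + 1)) * (q ^ (k + 1) * y) := Nat.mul_le_mul_right _ ih
      _ = 4 * (y * (q ^ k * G)) * (q * q ^ (k + 1)) := by rw [hxq]; ring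

theorem gl_lower {q : ℕ} (hq : 2 ≤ q) (k : ℕ) :
    q ^ (k * k) ≤ 4 * (∏ i ∈ Finset.range k, (q ^ k - q ^ i)) := by
  rcases Nat.eq_zero_or_pos k with rfl | hk
  · simp
  · have h1 := gl_lower_aux hq k hk
    have h3 : 0 < q ^ (k + 1) := Nat.pow_pos (by omega)
    refine Nat.le_of_mul_le_mul_right ?_ h3
    refine le_trans ?_ h1
    exact Nat.mul_le_mul_left _ (Nat.le_add_right _ _)

/-- **the class of an involution of rank `k`** -/
theorem index_le (hB : Symp B) (h2 : (2 : F) = 0) {m : ℕ} (hV : Nat.card V = Nat.card F ^ (2 * m)) {k : ℕ} (hk : k ≤ m)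
    {t : Sp B} (ht : t ∈ SI B k) :
    (centralizer ({t} : Set (Sp B))).index ≤ 4 * Nat.card F ^ (k * (2 * m - k + 1)) := by
  refine (index_le_card ht).trans ?_
  have h1 := card_SI hB h2 hV k
  have hq : 2 ≤ Nat.card F := Finite.one_lt_card
  have h3 := gl_lower hq k
  have hq0 : 0 < Nat.card F ^ (k * k) := Nat.pow_pos (by omega)
  refine Nat.le_of_mul_le_mul_right ?_ hq0
  have h4 : Nat.card F ^ (k * (2 * m + 1)) = Nat.card F ^ (k * (2 * m - k + 1)) * Nat.card F ^ (k * k) := by
    rw [← pow_add]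
    congr 1
    obtain ⟨d, rfl⟩ : ∃ d, m = k + d := ⟨m - k, by omega⟩
    have : 2 * (k + d) - k = k + 2 * d := by omega
    rw [this]
    ring
  calc Nat.card (SI B k) * Nat.card F ^ (k * k)
      ≤ Nat.card (SI B k) * (4 * (∏ i ∈ Finset.range k, (Nat.card F ^ k - Nat.card F ^ i))) :=
        Nat.mul_le_mul_left _ h3
    _ = 4 * (Nat.card (SI B k) * ∏ i ∈ Finset.range k, (Nat.card F ^ k - Nat.card F ^ i)) := by ring
    _ ≤ 4 * Nat.card F ^ (k * (2 * m + 1)) := Nat.mul_le_mul_left _ h1
    _ = 4 * Nat.card F ^ (k * (2 * m - k + 1)) * Nat.card F ^ (k * k) := by rw [h4]; ring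

/-- the rank is at most `m` -/
theorem rank_le (h2 : (2 : F) = 0) {m : ℕ} (hV : Nat.card V = Nat.card F ^ (2 * m)) {g : Sp B}
    (hg : g * g = 1) : finrank F (LinearMap.range (nl g)) ≤ m := by
  have h1 : finrank F V = 2 * m := by
    have h3 := Module.natCard_eq_pow_finrank (K := F) (V := V)
    rw [hV] at h3
    exact (Nat.pow_right_injective Finite.one_lt_card h3).symm
  have h3 : LinearMap.range (nl g) ≤ LinearMap.ker (nl g) := by
    rintro _ ⟨x, rfl⟩
    exact nl_nl h2 hg x
  have h4 := LinearMap.finrank_range_add_finrank_ker (nl g)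
  have h5 := Submodule.finrank_mono h3
  omega

end Count

/-- the inequalities known for the preimage `X ≤ Sp B` of `A` (from `IF A Γ`) -/
structure Hyp (X : Subgroup (Sp B)) : Prop where
  e2 : ∀ t ∈ X, t ≠ 1 → t * t = 1 → ∀ L : Subgroup (Sp B), (∀ b ∈ L, b * t = t * b) →
    X.relIndex L ^ 5 < (centralizer ({t} : Set (Sp B))).index
  big : ∀ t ∈ X, t ≠ 1 → t * t = 1 → 729 ^ 5 < (centralizer ({t} : Set (Sp B))).index ^ 6

end Cfsg.Agent.H407.IF
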